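import Cfsg.Agent.ChevExt.Fast
import Cfsg.Agent.Chev.All
import Cfsg.Prelude.Def_ChevE6

/-!
The lifting certificate of the datum of type E6.
-/

set_option autoImplicit false
set_option maxHeartbeats 4000000
set_option maxRecDepth 100000

namespace Cfsg.Agent.ChevExt

open Cfsg.Lie Cfsg.Agent.Chev

/-- The decompositions of the first fundamental root. -/
def e6K : List (ℕ × ℕ) :=
  [(16, 66), (17, 65), (18, 64), (19, 63), (20, 62), (21, 61), (26, 60), (27, 59), (28, 58), (29, 57), (57, 29), (58, 28), (59, 27), (60, 26), (61, 21), (62, 20), (63, 19), (64, 18), (65, 17), (66, 16)]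

theorem e6_pairs0 : pairsFast chevE6 e6Cert (chevE6.simple 0) e6K (0 * 18) 18 = true := by
  decide +kernel

theorem e6_pairs1 : pairsFast chevE6 e6Cert (chevE6.simple 0) e6K (1 * 18) 18 = true := by
  decide +kernel

theorem e6_pairs2 : pairsFast chevE6 e6Cert (chevE6.simple 0) e6K (2 * 18) 18 = true := by
  decide +kernel

theorem e6_pairs3 : pairsFast chevE6 e6Cert (chevE6.simple 0) e6K (3 * 18) 18 = true := by
  decide +kernel

/-- The certificate. -/
def certE6 : SimplyCert chevE6 where
  node := 0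
  node_lt := by decide
  nodes := by decide +kernel
  K := e6K
  L := [(1, 25), (0, 46), (0, 47), (0, 48), (0, 49), (0, 0), (0, 0), (0, 0), (0, 0), (0, 0), (0, 0), (0, 0), (0, 0), (0, 0), (0, 0), (0, 0), (0, 61), (0, 62), (0, 63), (0, 64), (0, 65), (0, 66), (0, 67), (0, 68), (0, 69), (0, 70), (1, 64), (1, 65), (1, 66), (2, 66), (1, 67), (1, 68), (1, 69), (2, 67), (2, 68), (3, 67), (4, 68), (3, 69), (4, 69), (2, 70), (3, 70), (4, 70), (0, 0), (0, 0), (0, 0), (0, 0), (1, 71), (2, 71), (3, 71), (4, 71), (0, 0), (0, 0), (0, 0), (0, 0), (0, 0), (0, 0), (16, 66), (16, 69), (16, 70), (17, 70), (18, 70), (16, 71), (17, 71), (18, 71), (19, 71), (20, 71), (21, 71), (22, 71), (23, 71), (24, 71), (25, 71), (46, 70)]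
  steps := [((61, 0, 66), 16, 21), ((58, 1, 66), 16, 28), ((57, 2, 66), 16, 29), ((27, 22, 66), 16, 59), ((26, 23, 66), 16, 60), ((20, 30, 66), 16, 62), ((19, 31, 66), 16, 63), ((18, 33, 66), 16, 64), ((17, 34, 66), 16, 65)]
  pairs := pairsChk_of_fast (w := 18) e6_checks 4 (by decide +kernel) fun k hk => by
    interval_cases k
    · exact e6_pairs0
    · exact e6_pairs1
    · exact e6_pairs2
    · exact e6_pairs3
  comm := by decide +kernel
  reach := by decide +kernel
  sub := by decide +kernel
  ne := by simp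

end Cfsg.Agent.ChevExt
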