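import Cfsg.Agent.ChevExt.Fast
import Cfsg.Agent.Chev.All
import Cfsg.Prelude.Def_ChevE7

/-!
The lifting certificate of the datum of type E7.
-/

set_option autoImplicit false
set_option maxHeartbeats 4000000
set_option maxRecDepth 100000

namespace Cfsg.Agent.ChevExt

open Cfsg.Lie Cfsg.Agent.Chev

/-- The decompositions of the first fundamental root. -/
def e7K : List (ℕ × ℕ) :=
  [(1, 125), (33, 108), (34, 107), (35, 106), (36, 105), (37, 104), (38, 103), (39, 102), (40, 101), (41, 100), (42, 99), (48, 98), (49, 97), (50, 96), (51, 95), (52, 94), (94, 52), (95, 51), (96, 50), (97, 49), (98, 48), (99, 42), (100, 41), (101, 40), (102, 39), (103, 38), (104, 37), (105, 36), (106, 35), (107, 34), (108, 33), (125, 1)]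

theorem e7_pairs0 : pairsFast chevE7 e7Cert (chevE7.simple 0) e7K (0 * 18) 18 = true := by
  decide +kernel

theorem e7_pairs1 : pairsFast chevE7 e7Cert (chevE7.simple 0) e7K (1 * 18) 18 = true := by
  decide +kernel

theorem e7_pairs2 : pairsFast chevE7 e7Cert (chevE7.simple 0) e7K (2 * 18) 18 = true := by
  decide +kernel

theorem e7_pairs3 : pairsFast chevE7 e7Cert (chevE7.simple 0) e7K (3 * 18) 18 = true := by
  decide +kernel

theorem e7_pairs4 : pairsFast chevE7 e7Cert (chevE7.simple 0) e7K (4 * 18) 18 = true := by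
  decide +kernel

theorem e7_pairs5 : pairsFast chevE7 e7Cert (chevE7.simple 0) e7K (5 * 18) 18 = true := by
  decide +kernel

theorem e7_pairs6 : pairsFast chevE7 e7Cert (chevE7.simple 0) e7K (6 * 18) 18 = true := by
  decide +kernel

/-- The certificate. -/
def certE7 : SimplyCert chevE7 where
  node := 0
  node_lt := by decide
  nodes := by decide +kernel
  K := e7K
  L := [(0, 0), (2, 52), (3, 56), (2, 69), (2, 70), (2, 71), (2, 72), (2, 79), (2, 80), (2, 81), (2, 82), (3, 80), (3, 81), (3, 82), (4, 81), (4, 82), (5, 82), (0, 0), (0, 0), (0, 0), (0, 0), (0, 0), (0, 0), (0, 0), (0, 0), (0, 0), (0, 0), (0, 0), (0, 0), (0, 0), (0, 0), (0, 0), (0, 0), (1, 109), (1, 110), (1, 111), (1, 112), (1, 113), (1, 114), (1, 115), (1, 116), (1, 117), (1, 118), (2, 115), (2, 116), (2, 117), (2, 118), (3, 118), (1, 119), (1, 120), (1, 121), (1, 122), (1, 123), (2, 119), (2, 120), (2, 121), (2, 122), (3, 119), (3, 120), (3, 121), (4, 119), (4, 120), (5, 119), (6, 120), (5, 121), (6, 121), (4, 122), (5, 122), (6, 122),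 (3, 123), (4, 123), (5, 123), (6, 123), (0, 0), (0, 0), (0, 0), (0, 0), (0, 0), (7, 122), (7, 123), (8, 123), (9, 123), (10, 123), (0, 0), (0, 0), (0, 0), (0, 0), (0, 0), (0, 0), (0, 0), (0, 0), (0, 0), (0, 0), (1, 125), (2, 125), (3, 125), (4, 125), (5, 125), (6, 125), (7, 125), (8, 125), (9, 125), (10, 125), (11, 125), (12, 125), (13, 125), (14, 125), (15, 125), (16, 125), (43, 120), (43, 121), (44, 121), (43, 122), (44, 122), (45, 122), (43, 123), (44, 123), (45, 123), (46, 123), (53, 123), (54, 123), (55, 123), (56, 123), (69, 122), (0, 0), (94, 123)]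
  steps := [((52, 2, 125), 1, 94), ((51, 3, 125), 1, 95), ((50, 4, 125), 1, 96), ((49, 5, 125), 1, 97), ((48, 6, 125), 1, 98), ((42, 7, 125), 1, 99), ((41, 8, 125), 1, 100), ((40, 9, 125), 1, 101), ((39, 10, 125), 1, 102), ((38, 11, 125), 1, 103), ((37, 12, 125), 1, 104), ((36, 13, 125), 1, 105), ((35, 14, 125), 1, 106), ((34, 15, 125), 1, 107), ((33, 16, 125), 1, 108)]
  pairs := pairsChk_of_fast (w := 18) e7_checks 7 (by decide +kernel) fun k hk => by
    interval_cases k
    · exact e7_pairs0
    · exact e7_pairs1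
    · exact e7_pairs2
    · exact e7_pairs3
    · exact e7_pairs4
    · exact e7_pairs5
    · exact e7_pairs6
  comm := by decide +kernel
  reach := by decide +kernel
  sub := by decide +kernel
  ne := by simp

end Cfsg.Agent.ChevExt
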