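import Cfsg.Agent.ChevExt.Embed
import Cfsg.Agent.Chev.All

/-!
The inclusion of the root system of type E6 in that of type E8.
-/

set_option autoImplicit false
set_option maxHeartbeats 4000000
set_option maxRecDepth 100000

namespace Cfsg.Agent.ChevExt

open Cfsg.Lie Cfsg.Agent.Chev

/-- The indices of the roots. -/
def e6InE8 : List ℕ :=
  [35, 45, 51, 54, 55, 61, 64, 65, 68, 69, 70, 73, 74, 75, 76, 77, 83, 86, 87, 90, 91, 92, 95, 96, 97, 98, 101, 102, 103, 104, 107, 108, 109, 112, 113, 116, 123, 126, 127, 130, 131, 132, 135, 136, 137, 138, 141, 142, 143, 144, 147, 148, 149, 152, 153, 156, 162, 163, 164, 165, 166, 169, 170, 171, 174, 175, 178, 184, 185, 188, 194, 204]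

/-- The signs of the roots. -/
def e6InE8Sign : ℕ → ℤ := fun _ => 1

theorem e6_terms0 :
    termsFast chevE6 chevE8 e6Cert e8Cert (fun r => e6InE8.getD r 0) e6InE8Sign
      (0 * 18) 18 = true := by
  decide +kernel

theorem e6_terms1 :
    termsFast chevE6 chevE8 e6Cert e8Cert (fun r => e6InE8.getD r 0) e6InE8Sign
      (1 * 18) 18 = true := by
  decide +kernel

theorem e6_terms2 :
    termsFast chevE6 chevE8 e6Cert e8Cert (fun r => e6InE8.getD r 0) e6InE8Sign
      (2 * 18) 18 = true := by
  decide +kernel

theorem e6_terms3 :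
    termsFast chevE6 chevE8 e6Cert e8Cert (fun r => e6InE8.getD r 0) e6InE8Sign
      (3 * 18) 18 = true := by
  decide +kernel

/-- The inclusion. -/
def embE6 : RootEmb chevE6 chevE8 where
  f r := e6InE8.getD r 0
  node i := ([0, 1, 2, 3, 4, 5] : List ℕ).getD i 0
  ε := e6InE8Sign
  node_lt := by decide +kernel
  node_inj := by decide +kernel
  lt := by decide +kernel
  inj := by decide +kernel
  simple := by decide +kernel
  neg := by decide +kernel
  sq := by decide +kernel
  ε_neg := by decide +kernel
  terms := terms_of_fast (w := 18) e6_checks e8_checks 4 (by decide +kernel) fun k hk => by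
    interval_cases k
    · exact e6_terms0
    · exact e6_terms1
    · exact e6_terms2
    · exact e6_terms3

end Cfsg.Agent.ChevExt
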