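import Cfsg.Agent.ChevExt.Embed
import Cfsg.Agent.Chev.All

/-!
The inclusion of the root system of type E7 in that of type E8.
-/

set_option autoImplicit false
set_option maxHeartbeats 4000000
set_option maxRecDepth 100000

namespace Cfsg.Agent.ChevExt

open Cfsg.Lie Cfsg.Agent.Chev

/-- The indices of the roots. -/
def e7InE8 : List ℕ :=
  [13, 20, 25, 29, 32, 34, 35, 39, 42, 44, 45, 48, 50, 51, 53, 54, 55, 58, 60, 61, 63, 64, 65, 67, 68, 69, 70, 72, 73, 74, 75, 76, 77, 80, 82, 83, 85, 86, 87, 89, 90, 91, 92, 94, 95, 96, 97, 98, 100, 101, 102, 103, 104, 106, 107, 108, 109, 111, 112, 113, 115, 116, 118, 121, 123, 124, 126, 127, 128, 130, 131, 132, 133, 135, 136, 137, 138, 139, 141, 142, 143, 144, 145, 147, 148, 149, 150, 152, 153, 154, 156, 157, 159, 162, 163, 164, 165, 166, 167, 169, 170, 171, 172, 174, 175, 176, 178, 179, 181, 184, 185, 186, 188, 189, 191, 194, 195, 197, 200, 204, 205, 207, 210, 214, 219, 226]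

/-- The signs of the roots. -/
def e7InE8Sign : ℕ → ℤ := fun _ => 1

theorem e7_terms0 :
    termsFast chevE7 chevE8 e7Cert e8Cert (fun r => e7InE8.getD r 0) e7InE8Sign
      (0 * 18) 18 = true := by
  decide +kernel

theorem e7_terms1 :
    termsFast chevE7 chevE8 e7Cert e8Cert (fun r => e7InE8.getD r 0) e7InE8Sign
      (1 * 18) 18 = true := by
  decide +kernel

theorem e7_terms2 :
    termsFast chevE7 chevE8 e7Cert e8Cert (fun r => e7InE8.getD r 0) e7InE8Sign
      (2 * 18) 18 = true := by
  decide +kernel

theorem e7_terms3 :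
    termsFast chevE7 chevE8 e7Cert e8Cert (fun r => e7InE8.getD r 0) e7InE8Sign
      (3 * 18) 18 = true := by
  decide +kernel

theorem e7_terms4 :
    termsFast chevE7 chevE8 e7Cert e8Cert (fun r => e7InE8.getD r 0) e7InE8Sign
      (4 * 18) 18 = true := by
  decide +kernel

theorem e7_terms5 :
    termsFast chevE7 chevE8 e7Cert e8Cert (fun r => e7InE8.getD r 0) e7InE8Sign
      (5 * 18) 18 = true := by
  decide +kernel

theorem e7_terms6 :
    termsFast chevE7 chevE8 e7Cert e8Cert (fun r => e7InE8.getD r 0) e7InE8Sign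
      (6 * 18) 18 = true := by
  decide +kernel

/-- The inclusion. -/
def embE7 : RootEmb chevE7 chevE8 where
  f r := e7InE8.getD r 0
  node i := ([0, 1, 2, 3, 4, 5, 6] : List ℕ).getD i 0
  ε := e7InE8Sign
  node_lt := by decide +kernel
  node_inj := by decide +kernel
  lt := by decide +kernel
  inj := by decide +kernel
  simple := by decide +kernel
  neg := by decide +kernel
  sq := by decide +kernel
  ε_neg := by decide +kernel
  terms := terms_of_fast (w := 18) e7_checks e8_checks 7 (by decide +kernel) fun k hk => by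
    interval_cases k
    · exact e7_terms0
    · exact e7_terms1
    · exact e7_terms2
    · exact e7_terms3
    · exact e7_terms4
    · exact e7_terms5
    · exact e7_terms6

end Cfsg.Agent.ChevExt
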