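import Cfsg.Agent.ChevExt.Embed
import Cfsg.Agent.Chev.All

/-!
The inclusion of the root system of type B2 in that of type F4.
-/

set_option autoImplicit false
set_option maxHeartbeats 4000000
set_option maxRecDepth 100000

namespace Cfsg.Agent.ChevExt

open Cfsg.Lie Cfsg.Agent.Chev

/-- The indices of the roots. -/
def b2InF4 : List ℕ :=
  [17, 19, 20, 22, 25, 27, 28, 30]

/-- The signs of the roots. -/
def b2InF4Sign : ℕ → ℤ := fun _ => 1

theorem b2_terms0 :
    termsFast chevB2 chevF4 b2Cert f4Cert (fun r => b2InF4.getD r 0) b2InF4Sign
      (0 * 8) 8 = true := by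
  decide +kernel

/-- The inclusion. -/
def embB2 : RootEmb chevB2 chevF4 where
  f r := b2InF4.getD r 0
  node i := ([1, 2] : List ℕ).getD i 0
  ε := b2InF4Sign
  node_lt := by decide +kernel
  node_inj := by decide +kernel
  lt := by decide +kernel
  inj := by decide +kernel
  simple := by decide +kernel
  neg := by decide +kernel
  sq := by decide +kernel
  ε_neg := by decide +kernel
  terms := terms_of_fast (w := 8) b2_checks f4_checks 1 (by decide +kernel) fun k hk => by
    interval_cases k
    · exact b2_terms0

end Cfsg.Agent.ChevExt
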