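import Cfsg.Agent.ChevExt.Embed
import Cfsg.Agent.Chev.All

/-!
The inclusion of the root system of type D4 in that of type E8.
-/

set_option autoImplicit false
set_option maxHeartbeats 4000000
set_option maxRecDepth 100000

namespace Cfsg.Agent.ChevExt

open Cfsg.Lie Cfsg.Agent.Chev

/-- The indices of the roots. -/
def d4InE8 : List ℕ :=
  [87, 91, 92, 96, 97, 98, 102, 103, 108, 109, 104, 113, 126, 135, 130, 131, 136, 137, 141, 142, 143, 147, 148, 152]

/-- The signs of the roots. -/
def d4InE8Sign : ℕ → ℤ := fun r => ([6, 7, 16, 17] : List ℕ).foldr (fun k z => if r = k then -1 else z) 1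

theorem d4_terms0 :
    termsFast chevD4 chevE8 d4Cert e8Cert (fun r => d4InE8.getD r 0) d4InE8Sign
      (0 * 12) 12 = true := by
  decide +kernel

theorem d4_terms1 :
    termsFast chevD4 chevE8 d4Cert e8Cert (fun r => d4InE8.getD r 0) d4InE8Sign
      (1 * 12) 12 = true := by
  decide +kernel

/-- The inclusion. -/
def embD4 : RootEmb chevD4 chevE8 where
  f r := d4InE8.getD r 0
  node i := ([1, 3, 2, 4] : List ℕ).getD i 0
  ε := d4InE8Sign
  node_lt := by decide +kernel
  node_inj := by decide +kernel
  lt := by decide +kernel
  inj := by decide +kernel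
  simple := by decide +kernel
  neg := by decide +kernel
  sq := by decide +kernel
  ε_neg := by decide +kernel
  terms := terms_of_fast (w := 12) d4_checks e8_checks 2 (by decide +kernel) fun k hk => by
    interval_cases k
    · exact d4_terms0
    · exact d4_terms1

end Cfsg.Agent.ChevExt
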