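import Cfsg.Agent.ChevExt.TorusChk
import Cfsg.Agent.Chev.All
import Cfsg.Prelude.Def_ChevB2

/-!
Separation of the roots of type B2 by the torus.
-/

set_option autoImplicit false
set_option maxHeartbeats 4000000
set_option maxRecDepth 100000

namespace Cfsg.Agent.ChevExt

open Cfsg.Lie Cfsg.Agent.Chev

/-- The certificate. -/
def torB2 : TorCert chevB2 where
  cands := [[-1, -1], [0, -1], [-3, 1], [-1, -2]]
  brs := [(0, 1, 4), (3, 1, 7), (4, 2, 7), (7, 5, 4)]
  chk := by decide +kernel
  refl := termsRefl_of_fast.{0} b2_checks facts_chevB2 (by decide +kernel)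

end Cfsg.Agent.ChevExt
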