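import Cfsg.Agent.ChevExt.SmallLifts
import Cfsg.Agent.Chev.All

/-!
Separation of the roots of type F4 over fields with three or four elements.
-/

set_option autoImplicit false
set_option maxHeartbeats 4000000
set_option maxRecDepth 100000

namespace Cfsg.Agent.ChevExt

open Cfsg.Lie Cfsg.Agent.Chev

/-- The exponent vectors for 3 elements. -/
def f43Cands : List (List ℤ) := [[-1, -2, -2, -1], [-1, -1, -1, -1], [-1, -1, -2, -1], [0, -1, -1, -1], [0, -1, -2, -1], [-2, -1, -2, -2]]

theorem f43_move : moveK chevF4 1 f43Cands = true := by decide +kernel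

/-- The exchanging words. -/
def f43Words : List ((ℕ × ℕ) × List ℕ) := [((24, 32), [2, 1, 2]), ((24, 43), [2, 0, 1, 2, 0]), ((24, 45), [1, 2, 0, 1, 2, 0, 1]), ((25, 30), [1]), ((25, 41), [0, 1, 0]), ((25, 47), [3, 1, 2, 0, 1, 2, 3, 0, 1]), ((26, 31), [1]), ((26, 42), [0, 1, 0]), ((26, 46), [1, 2, 0, 1, 2, 0, 1]), ((30, 41), [0]), ((30, 47), [3, 2, 0, 1, 2, 3, 0]), ((31, 42), [0]), ((31, 46), [2, 0, 1, 2, 0]), ((32, 43), [0]), ((32, 45), [0, 1, 0]), ((41, 47), [3, 2, 1, 2, 3]), ((42, 46), [2, 1, 2]), ((43, 45), [1])]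

theorem f43_pairs : pairsK chevF4 f4Cert 1 f43Cands f43Words = true := by decide +kernel

/-- The exponent vectors for 4 elements. -/
def f44Cands : List (List ℤ) := [[-1, -2, -2, -2], [-1, -1, -2, -1], [0, -1, -2, 0], [-1, -1, -2, -2], [-1, -1, 0, 0], [0, -2, -2, -2]]

theorem f44_move : moveK chevF4 2 f44Cands = true := by decide +kernel

theorem f44_pairs : pairsK chevF4 f4Cert 2 f44Cands [] = true := by decide +kernel

/-- For each root two roots with it in their commutator. -/
def f44Brs : List (ℕ × ℕ) := [(1, 23), (0, 24), (0, 26), (0, 29), (0, 31), (0, 32), (1, 32), (0, 36), (0, 38), (0, 39), (1, 39), (0, 40), (1, 40), (2, 40), (3, 40), (0, 42), (0, 43), (1, 43), (0, 44), (1, 44), (2, 44), (0, 45), (1, 45), (0, 46), (1, 47), (2, 46), (2, 47), (3, 45), (3, 46), (3, 47), (4, 46), (4, 47), (5, 47), (7, 44), (7, 45), (7, 46), (7, 47), (8, 46), (8, 47), (9, 47), (11, 47), (15, 46), (15, 47), (16, 47), (18, 47), (21, 47), (23, 47), (24, 46)]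

theorem f44_bracks : ((List.range chevF4.nroots).all fun r =>
    brackK chevF4 2 true f44Cands r (f44Brs.getD r (0, 0))) = true := by
  decide +kernel

theorem f4_termsRefl : TermsRefl chevF4 :=
  termsRefl_of_fast.{0} f4_checks facts_chevF4 (by decide +kernel)

end Cfsg.Agent.ChevExt
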