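import Cfsg.Agent.ChevExt.TorusChk
import Cfsg.Agent.Chev.All
import Cfsg.Prelude.Def_ChevF4

/-!
Separation of the roots of type F4 by the torus.
-/

set_option autoImplicit false
set_option maxHeartbeats 4000000
set_option maxRecDepth 100000

namespace Cfsg.Agent.ChevExt

open Cfsg.Lie Cfsg.Agent.Chev

/-- The certificate. -/
def torF4 : TorCert chevF4 where
  cands := [[-1, -2, -2, -1], [0, 0, -1, -1], [-1, -1, -1, 0], [1, 1, 1, 1], [0, 1, 2, 0], [0, 0, 0, -1], [0, -1, -1, 0]]
  brs := []
  chk := by decide +kernel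
  refl := termsRefl_of_fast.{0} f4_checks facts_chevF4 (by decide +kernel)

end Cfsg.Agent.ChevExt
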