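import Cfsg.Agent.ChevExt.Fast
import Cfsg.Agent.Chev.All
import Cfsg.Prelude.Def_ChevE8

/-!
The lifting certificate of the datum of type E8.
-/

set_option autoImplicit false
set_option maxHeartbeats 4000000
set_option maxRecDepth 100000

namespace Cfsg.Agent.ChevExt

open Cfsg.Lie Cfsg.Agent.Chev

/-- The decompositions of the first fundamental root. -/
def e8K : List (ℕ × ℕ) :=
  [(14, 233), (15, 231), (16, 230), (17, 229), (18, 228), (19, 227), (20, 226), (78, 183), (79, 182), (80, 181), (81, 180), (82, 179), (83, 178), (84, 177), (85, 176), (86, 175), (87, 174), (88, 173), (89, 172), (90, 171), (91, 170), (92, 169), (99, 168), (100, 167), (101, 166), (102, 165), (103, 164), (104, 163), (163, 104), (164, 103), (165, 102), (166, 101), (167, 100), (168, 99), (169, 92), (170, 91), (171, 90), (172, 89), (173, 88), (174, 87), (175, 86), (176, 85), (177, 84), (178, 83), (179, 82), (180, 81), (181, 80), (182, 79), (183, 78), (226, 20), (227, 19), (228, 18), (229, 17), (230, 16), (231, 15), (233, 14)]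

theorem e8_pairs0 : pairsFast chevE8 e8Cert (chevE8.simple 0) e8K (0 * 20) 20 = true := by
  decide +kernel

theorem e8_pairs1 : pairsFast chevE8 e8Cert (chevE8.simple 0) e8K (1 * 20) 20 = true := by
  decide +kernel

theorem e8_pairs2 : pairsFast chevE8 e8Cert (chevE8.simple 0) e8K (2 * 20) 20 = true := by
  decide +kernel

theorem e8_pairs3 : pairsFast chevE8 e8Cert (chevE8.simple 0) e8K (3 * 20) 20 = true := by
  decide +kernel

theorem e8_pairs4 : pairsFast chevE8 e8Cert (chevE8.simple 0) e8K (4 * 20) 20 = true := by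
  decide +kernel

theorem e8_pairs5 : pairsFast chevE8 e8Cert (chevE8.simple 0) e8K (5 * 20) 20 = true := by
  decide +kernel

theorem e8_pairs6 : pairsFast chevE8 e8Cert (chevE8.simple 0) e8K (6 * 20) 20 = true := by
  decide +kernel

theorem e8_pairs7 : pairsFast chevE8 e8Cert (chevE8.simple 0) e8K (7 * 20) 20 = true := by
  decide +kernel

theorem e8_pairs8 : pairsFast chevE8 e8Cert (chevE8.simple 0) e8K (8 * 20) 20 = true := by
  decide +kernel

theorem e8_pairs9 : pairsFast chevE8 e8Cert (chevE8.simple 0) e8K (9 * 20) 20 = true := by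
  decide +kernel

theorem e8_pairs10 : pairsFast chevE8 e8Cert (chevE8.simple 0) e8K (10 * 20) 20 = true := by
  decide +kernel

theorem e8_pairs11 : pairsFast chevE8 e8Cert (chevE8.simple 0) e8K (11 * 20) 20 = true := by
  decide +kernel

/-- The certificate. -/
def certE8 : SimplyCert chevE8 where
  node := 0
  node_lt := by decide
  nodes := by decide +kernel
  K := e8K
  L := [(1, 119), (0, 120), (0, 122), (0, 125), (0, 129), (0, 134), (0, 0), (0, 146), (0, 0), (0, 0), (0, 0), (0, 0), (0, 0), (0, 0), (0, 168), (0, 173), (0, 177), (0, 180), (0, 182), (0, 183), (1, 183), (0, 187), (0, 190), (0, 192), (0, 193), (1, 193), (0, 196), (0, 198), (0, 199), (1, 199), (0, 201), (0, 202), (1, 202), (0, 203), (1, 203), (2, 203), (0, 206), (0, 208), (0, 209), (1, 209), (0, 211), (0, 212), (1, 212), (0, 213), (1, 213), (2, 213), (0, 215), (0, 216), (1, 216), (0, 217), (1, 217), (2, 217), (0, 218), (1, 218), (2, 218), (3, 218), (0, 0), (0, 0), (0, 0), (0, 0), (0, 0), (0, 0), (0, 0), (0, 0), (0, 0), (0, 0), (0, 0), (0, 0), (0,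 0), (0, 0), (0, 0), (0, 0), (0, 0), (0, 0), (0, 0), (0, 0), (0, 0), (0, 0), (0, 227), (0, 228), (1, 228), (0, 229), (1, 229), (2, 229), (0, 230), (1, 230), (2, 230), (3, 230), (0, 231), (1, 231), (2, 231), (3, 231), (4, 231), (0, 232), (1, 232), (2, 232), (3, 232), (4, 232), (5, 232), (0, 233), (1, 233), (2, 233), (3, 233), (4, 233), (5, 233), (0, 234), (1, 234), (2, 234), (3, 234), (4, 234), (0, 235), (1, 235), (2, 235), (3, 235), (0, 236), (1, 236), (2, 236), (0, 237), (1, 237), (0, 238), (1, 239), (2, 238), (2, 239), (3, 237), (3, 238), (3, 239), (4, 236), (4, 237), (4, 238), (4, 239), (5, 235), (5, 236), (5, 237), (5, 238), (5, 239), (0, 0), (0, 0), (0, 0), (0, 0), (0, 0), (0, 0), (7, 234), (7, 235), (7, 236), (7, 237), (7, 238), (7, 239), (0, 0), (0, 0), (0, 0), (0, 0), (0, 0), (0, 0), (0, 0), (0, 0), (0, 0), (0, 0), (0, 0), (0, 0), (0, 0), (0, 0), (0, 0), (14, 233), (14, 234), (14, 235), (14, 236), (14, 237), (14, 238), (14, 239), (15, 235), (15, 236), (15, 237), (15, 238), (15, 239), (16, 236), (16, 237), (16,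 238), (16, 239), (17, 237), (17, 238), (17, 239), (18, 238), (18, 239), (19, 239), (21, 236), (21, 237), (21, 238), (21, 239), (22, 237), (22, 238), (22, 239), (23, 238), (23, 239), (24, 239), (26, 237), (26, 238), (26, 239), (27, 238), (27, 239), (28, 239), (30, 238), (30, 239), (31, 239), (33, 239), (36, 237), (36, 238), (36, 239), (37, 238), (37, 239), (38, 239), (40, 238), (40, 239), (41, 239), (43, 239), (46, 238), (46, 239), (47, 239), (49, 239), (52, 239), (0, 0), (0, 0), (0, 0), (0, 0), (0, 0), (0, 0), (0, 0), (78, 238), (78, 239), (79, 239), (81, 239), (84, 239), (88, 239), (93, 239), (99, 239), (105, 239), (110, 239), (114, 239), (117, 239), (119, 239), (120, 238)]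
  steps := [((168, 0, 233), 14, 99), ((167, 1, 233), 14, 100), ((166, 2, 233), 14, 101), ((165, 3, 233), 14, 102), ((164, 4, 233), 14, 103), ((163, 5, 233), 14, 104), ((92, 21, 233), 14, 169), ((91, 22, 233), 14, 170), ((90, 23, 233), 14, 171), ((89, 24, 233), 14, 172), ((88, 25, 233), 14, 173), ((87, 26, 233), 14, 174), ((86, 27, 233), 14, 175), ((85, 28, 233), 14, 176), ((84, 29, 233), 14, 177), ((83, 30, 233), 14, 178), ((82, 31, 233), 14, 179), ((81, 32, 233), 14, 180), ((80, 33, 233), 14, 181), ((79, 34, 233), 14, 182), ((78, 35, 233), 14, 183), ((20, 93, 233), 14, 226), ((19, 94, 233), 14, 227), ((18, 95, 233), 14, 228), ((17, 96, 233), 14, 229), ((16, 97, 233), 14, 230), ((15, 98, 233), 14, 231)]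
  pairs := pairsChk_of_fast (w := 20) e8_checks 12 (by decide +kernel) fun k hk => by
    interval_cases k
    · exact e8_pairs0
    · exact e8_pairs1
    · exact e8_pairs2
    · exact e8_pairs3
    · exact e8_pairs4
    · exact e8_pairs5
    · exact e8_pairs6
    · exact e8_pairs7
    · exact e8_pairs8
    · exact e8_pairs9
    · exact e8_pairs10
    · exact e8_pairs11
  comm := by decide +kernel
  reach := by decide +kernel
  sub := by decide +kernel
  ne := by simp

end Cfsg.Agent.ChevExt
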