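import Cfsg.Agent.ChevExt.SmallLifts
import Cfsg.Agent.Chev.All

/-!
Separation of the roots of type B2 over fields with three or four elements.
-/

set_option autoImplicit false
set_option maxHeartbeats 4000000
set_option maxRecDepth 100000

namespace Cfsg.Agent.ChevExt

open Cfsg.Lie Cfsg.Agent.Chev

/-- The exponent vectors for 4 elements. -/
def b24Cands : List (List ℤ) := [[-1, -1], [0, -1], [-1, -2]]

theorem b24_move : moveK chevB2 2 b24Cands = true := by decide +kernel

theorem b24_pairs : pairsK chevB2 b2Cert 2 b24Cands [] = true := by decide +kernel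

/-- For each root two roots with it in their commutator. -/
def b24Brs : List (ℕ × ℕ) := [(1, 4), (0, 5), (0, 6), (1, 7), (2, 7), (1, 7), (2, 7), (5, 4)]

theorem b24_bracks : ((List.range chevB2.nroots).all fun r =>
    brackK chevB2 2 true b24Cands r (b24Brs.getD r (0, 0))) = true := by
  decide +kernel

theorem b2_termsRefl : TermsRefl chevB2 :=
  termsRefl_of_fast.{0} b2_checks facts_chevB2 (by decide +kernel)

end Cfsg.Agent.ChevExt
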