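import Cfsg.Agent.ChevExt.SmallLifts
import Cfsg.Agent.Chev.All

/-!
Separation of the roots of type D4 over fields with three or four elements.
-/

set_option autoImplicit false
set_option maxHeartbeats 4000000
set_option maxRecDepth 100000

namespace Cfsg.Agent.ChevExt

open Cfsg.Lie Cfsg.Agent.Chev

/-- The exponent vectors for 3 elements. -/
def d43Cands : List (List ℤ) := [[-1, -2, -1, -1], [-1, -1, -1, -1], [-1, -1, -1, 0], [-2, -1, 1, -1], [-2, -1, -1, 2]]

theorem d43_move : moveK chevD4 1 d43Cands = true := by decide +kernel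

/-- The exchanging words. -/
def d43Words : List ((ℕ × ℕ) × List ℕ) := [((12, 13), [1, 3, 2, 1]), ((12, 18), [1, 3, 0, 1]), ((12, 23), [1, 2, 0, 1]), ((13, 18), [1, 2, 0, 1]), ((13, 23), [1, 3, 0, 1]), ((14, 17), [3, 2]), ((14, 20), [3, 0]), ((14, 21), [2, 0]), ((15, 16), [3, 2]), ((15, 19), [3, 0]), ((15, 22), [2, 0]), ((16, 19), [2, 0]), ((16, 22), [3, 0]), ((17, 20), [2, 0]), ((17, 21), [3, 0]), ((18, 23), [1, 3, 2, 1]), ((19, 22), [3, 2]), ((20, 21), [3, 2])]

theorem d43_pairs : pairsK chevD4 d4Cert 1 d43Cands d43Words = true := by decide +kernel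

/-- The exponent vectors for 4 elements. -/
def d44Cands : List (List ℤ) := [[-2, -2, -1, -1], [-1, -2, -2, -1], [-1, -2, -1, -2], [-1, -2, -1, 0]]

theorem d44_move : moveK chevD4 2 d44Cands = true := by decide +kernel

theorem d44_pairs : pairsK chevD4 d4Cert 2 d44Cands [] = true := by decide +kernel

/-- For each root two roots with it in their commutator. -/
def d44Brs : List (ℕ × ℕ) := [(1, 9), (0, 14), (0, 15), (0, 16), (0, 17), (1, 17), (0, 19), (0, 20), (0, 21), (0, 22), (1, 20), (1, 21), (2, 22), (3, 22), (1, 23), (2, 23), (3, 23), (4, 23), (6, 22), (6, 23), (7, 23), (8, 23), (9, 23), (14, 22)]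

theorem d44_bracks : ((List.range chevD4.nroots).all fun r =>
    brackK chevD4 2 true d44Cands r (d44Brs.getD r (0, 0))) = true := by
  decide +kernel

theorem d4_termsRefl : TermsRefl chevD4 :=
  termsRefl_of_fast.{0} d4_checks facts_chevD4 (by decide +kernel)

end Cfsg.Agent.ChevExt
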