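import Cfsg.Agent.ChevExt.TorusChk
import Cfsg.Agent.Chev.All
import Cfsg.Prelude.Def_ChevG2

/-!
Separation of the roots of type G2 by the torus.
-/

set_option autoImplicit false
set_option maxHeartbeats 4000000
set_option maxRecDepth 100000

namespace Cfsg.Agent.ChevExt

open Cfsg.Lie Cfsg.Agent.Chev

/-- The certificate. -/
def torG2 : TorCert chevG2 where
  cands := [[-1, -2], [-1, -1], [0, -1], [-1, 0], [1, 1], [-2, -3]]
  brs := []
  chk := by decide +kernel
  refl := termsRefl_of_fast.{0} g2_checks facts_chevG2 (by decide +kernel)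

end Cfsg.Agent.ChevExt
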